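import Mathlib
import Groth.Agent.FlatMor66.GenFreeCoker
import Groth.Agent.Glue24.SurjTor

/-!
Uniformity in fields by Noetherian induction on the parameter ring.
-/

set_option autoImplicit false
set_option linter.unusedSectionVars false
universe u

open TensorProduct MvPolynomial

namespace Groth.Agent.Rad31

/-- Noetherian induction over the parameters -/
theorem exists_bound {A : Type u} [CommRing A] [IsNoetherianRing A]
    (Pb : ℕ → ∀ (k : Type u) [Field k], (A →+* k) → Prop)
    (mono : ∀ D D', D ≤ D' → ∀ (k : Type u) [Field k] (φ : A →+* k), Pb D k φ → Pb D' k φ)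
    (step : ∀ (p : Ideal A), p.IsPrime → ∃ f ∉ p, ∃ D, ∀ (k : Type u) [Field k] (φ : A →+* k),
      p ≤ RingHom.ker φ → φ f ≠ 0 → Pb D k φ) :
    ∃ D, ∀ (k : Type u) [Field k] (φ : A →+* k), Pb D k φ := by
  suffices h : ∀ I : Ideal A, ∃ D, ∀ (k : Type u) [Field k] (φ : A →+* k),
      I ≤ RingHom.ker φ → Pb D k φ by
    obtain ⟨D, hD⟩ := h ⊥
    exact ⟨D, fun k _ φ => hD k φ bot_le⟩
  intro I
  induction I using WellFoundedGT.induction with
  | _ I ih =>
    by_cases htop : I = ⊤
    · exact ⟨0, fun k _ φ hle => absurd (hle (htop ▸ Submodule.mem_top : (1 : A) ∈ I)) (by simp)⟩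
    by_cases hp : I.IsPrime
    · obtain ⟨f, hf, D, hD⟩ := step I hp
      obtain ⟨D', hD'⟩ := ih (I ⊔ Ideal.span {f}) (Submodule.lt_sup_iff_notMem.2 hf)
      refine ⟨max D D', fun k _ φ hle => ?_⟩
      by_cases h : φ f = 0
      · exact mono _ _ (le_max_right _ _) k φ
          (hD' k φ (sup_le hle ((Ideal.span_singleton_le_iff_mem _).2 h)))
      · exact mono _ _ (le_max_left _ _) k φ (hD k φ hle h)
    · rw [Ideal.isPrime_iff] at hp
      push Not at hp
      obtain ⟨g, h, hgh, hg, hh⟩ := hp htop
      obtain ⟨D, hD⟩ := ih (I ⊔ Ideal.span {g}) (Submodule.lt_sup_iff_notMem.2 hg)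
      obtain ⟨D', hD'⟩ := ih (I ⊔ Ideal.span {h}) (Submodule.lt_sup_iff_notMem.2 hh)
      refine ⟨max D D', fun k _ φ hle => ?_⟩
      have h0 : φ g * φ h = 0 := by rw [← map_mul]; exact hle hgh
      rcases mul_eq_zero.1 h0 with h | h
      · exact mono _ _ (le_max_left _ _) k φ
          (hD k φ (sup_le hle ((Ideal.span_singleton_le_iff_mem _).2 h)))
      · exact mono _ _ (le_max_right _ _) k φ
          (hD' k φ (sup_le hle ((Ideal.span_singleton_le_iff_mem _).2 h)))

/-- generically the kernel commutes with base change to fields -/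
theorem exists_kernel_baseChange {A : Type u} [CommRing A] [IsDomain A] [IsNoetherianRing A]
    {B C : Type u} [CommRing B] [CommRing C]
    [Algebra A B] [Algebra B C] [Algebra A C] [IsScalarTower A B C] [Algebra.FiniteType A B] [Algebra.FiniteType B C]
    {M N : Type u} [AddCommGroup M] [Module B M] [Module A M] [IsScalarTower A B M] [Module.Finite B M]
    [AddCommGroup N] [Module C N] [Module B N] [Module A N] [IsScalarTower B C N] [IsScalarTower A B N] [Module.Finite C N]
    (u : M →ₗ[B] N) :
    ∃ f : A, f ≠ 0 ∧ ∀ (k : Type u) [Field k] [Algebra A k], algebraMap A k f ≠ 0 →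
      ∀ z : k ⊗[A] M, (u.restrictScalars A).lTensor k z = 0 →
        z ∈ LinearMap.range ((LinearMap.ker (u.restrictScalars A)).subtype.lTensor k) := by
  obtain ⟨f, hf0, hflat⟩ := Groth.Agent.FlatMor66.exists_flat_localizedModule_coker (A := A) (B := B) (C := C) u
  refine ⟨f, hf0, fun k _ _ hfk z hz => ?_⟩
  let A1 := Localization.Away f
  letI : Algebra A1 k := (IsLocalization.Away.lift f (S := A1) (isUnit_iff_ne_zero.2 hfk)).toAlgebra
  have : IsScalarTower A A1 k := IsScalarTower.of_algebraMap_eq fun a =>
    (IsLocalization.Away.lift_eq f (isUnit_iff_ne_zero.2 hfk) a).symm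
  set v := u.restrictScalars A
  let Im : Submodule A N := LinearMap.range v
  have hL : Module.Flat A1 (A1 ⊗[A] (N ⧸ Im)) := by
    have : Im = (LinearMap.range u).restrictScalars A := rfl
    rw [this]
    exact Module.Flat.of_linearEquiv (LocalizedModule.equivTensorProduct (Submonoid.powers f) _).symm
  have hinj1 : Function.Injective ((Im.subtype.baseChange A1).lTensor k) := by
    refine Groth.Agent.Glue24.lTensor_injective_of_flat_coker (L := A1 ⊗[A] (N ⧸ Im))
      (Im.subtype.baseChange A1) (Im.mkQ.baseChange A1) ?_ ?_ ?_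
    · exact Module.Flat.lTensor_preserves_injective_linearMap Im.subtype Subtype.val_injective
    · exact lTensor_exact A1 (LinearMap.exact_subtype_mkQ Im) Im.mkQ_surjective
    · exact LinearMap.lTensor_surjective A1 Im.mkQ_surjective
  let eI := AlgebraTensorModule.cancelBaseChange A A1 k k Im
  let eN := AlgebraTensorModule.cancelBaseChange A A1 k k N
  have hcomm : ∀ w, Im.subtype.lTensor k (eI w) = eN ((Im.subtype.baseChange A1).lTensor k w) := by
    intro w
    induction w using TensorProduct.induction_on with
    | zero => simp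
    | tmul c w =>
      induction w using TensorProduct.induction_on with
      | zero => simp
      | tmul b m => simp [eI, eN]
      | add a b ha hb => simp only [tmul_add, map_add, ha, hb]
    | add a b ha hb => simp only [map_add, ha, hb]
  have hinj : Function.Injective (Im.subtype.lTensor k) := by
    intro x y hxy
    obtain ⟨x, rfl⟩ := eI.surjective x
    obtain ⟨y, rfl⟩ := eI.surjective y
    rw [hcomm, hcomm] at hxy
    rw [hinj1 (eN.injective hxy)]
  let v' : M →ₗ[A] Im := v.rangeRestrict
  have hv' : Function.Surjective v' := v.surjective_rangeRestrict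
  have hex : Function.Exact (LinearMap.ker v).subtype v' := by
    intro m
    constructor
    · intro hm
      exact ⟨⟨m, congrArg Subtype.val hm⟩, rfl⟩
    · rintro ⟨⟨m, hm⟩, rfl⟩
      exact Subtype.ext hm
  have h0 : v'.lTensor k z = 0 := by
    apply hinj
    rw [map_zero, ← LinearMap.comp_apply, ← LinearMap.lTensor_comp]
    exact hz
  exact (lTensor_exact k hex hv' z).1 h0

/-- the universal tuple of polynomials of bounded degree -/
theorem exists_universal (N d : ℕ) (ι : Type) [Finite ι] :
    ∃ (A : Type u) (_ : CommRing A) (_ : IsNoetherianRing A) (F : ι → MvPolynomial (Fin N) A),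
      ∀ (k : Type u) [Field k] (W : ι → MvPolynomial (Fin N) k), (∀ i, (W i).totalDegree ≤ d) →
        ∃ φ : A →+* k, ∀ i, MvPolynomial.map φ (F i) = W i := by
  classical
  let A := MvPolynomial (ι × (Fin N → Fin (d + 1))) (ULift.{u} ℤ)
  have : IsNoetherianRing (ULift.{u} ℤ) := isNoetherianRing_of_ringEquiv ℤ ULift.ringEquiv.symm
  let mon : (Fin N → Fin (d + 1)) → (Fin N →₀ ℕ) := fun g => Finsupp.equivFunOnFinite.symm fun j => (g j : ℕ)
  have hmon : Function.Injective mon := fun g g' h => by
    funext j
    exact Fin.ext (DFunLike.congr_fun h j)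
  refine ⟨A, inferInstance, inferInstance,
    fun i => ∑ g, monomial (mon g) (X (i, g) : A), fun k _ W hW => ?_⟩
  refine ⟨eval₂Hom ((Int.castRingHom k).comp ULift.ringEquiv.toRingHom)
    (fun ig => (W ig.1).coeff (mon ig.2)), fun i => ?_⟩
  ext m
  simp only [map_sum, map_monomial, coeff_sum, coeff_monomial]
  by_cases hm : ∃ g, mon g = m
  · obtain ⟨g, rfl⟩ := hm
    rw [Finset.sum_eq_single g (fun g' _ hne => if_neg fun e => hne (hmon e))
      (fun h => absurd (Finset.mem_univ g) h), if_pos rfl]
    exact eval₂Hom_X' _ _ _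
  · rw [Finset.sum_eq_zero fun g _ => if_neg fun e => hm ⟨g, e⟩]
    symm
    by_contra h
    apply hm
    have hle : ∀ j, m j < d + 1 := fun j => by
      have h1 := MvPolynomial.le_totalDegree (MvPolynomial.mem_support_iff.2 h)
      have h2 : m j ≤ m.sum fun _ e => e := by
        by_cases hj : j ∈ m.support
        · exact Finset.single_le_sum (f := fun j => m j) (fun _ _ => Nat.zero_le _) hj
        · simp [Finsupp.notMem_support_iff.1 hj]
      have := hW i
      omega
    exact ⟨fun j => ⟨m j, hle j⟩, Finsupp.ext fun j => rfl⟩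

/-- a coefficientwise retraction -/
theorem mem_span_of_map_mem_span {k K : Type u} [Field k] [Field K] [Algebra k K] {σ : Type*}
    {S : Set (MvPolynomial σ k)} {f : MvPolynomial σ k}
    (hf : MvPolynomial.map (algebraMap k K) f ∈ Ideal.span (MvPolynomial.map (algebraMap k K) '' S)) :
    f ∈ Ideal.span S := by
  classical
  obtain ⟨ρ, hρ⟩ := (Algebra.linearMap k K).exists_leftInverse_of_injective
    (LinearMap.ker_eq_bot.2 (algebraMap k K).injective)
  have hρ1 : ∀ a, ρ (algebraMap k K a) = a := fun a => LinearMap.congr_fun hρ a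
  let R : MvPolynomial σ K →+ MvPolynomial σ k :=
    { toFun := fun p => Finsupp.sum (AddMonoidAlgebra.coeff p) fun m c => monomial m (ρ c)
      map_zero' := by simp
      map_add' := fun p q => by
        rw [AddMonoidAlgebra.coeff_add, Finsupp.sum_add_index'] <;> intros <;> simp [map_add] }
  have hmono : ∀ (m : σ →₀ ℕ) (c : K), R (monomial m c) = monomial m (ρ c) := fun m c =>
    show Finsupp.sum (Finsupp.single m c) (fun m c => monomial m (ρ c)) = _ from Finsupp.sum_single_index (by simp)
  have hmul : ∀ (q : MvPolynomial σ k) (p : MvPolynomial σ K),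
      R (MvPolynomial.map (algebraMap k K) q * p) = q * R p := by
    intro q p
    induction q using MvPolynomial.induction_on' with
    | add a b ha hb => rw [map_add, add_mul, map_add, ha, hb, add_mul]
    | monomial a c =>
      induction p using MvPolynomial.induction_on' with
      | add a b ha hb => rw [mul_add, map_add, ha, hb, map_add, mul_add]
      | monomial b d =>
        rw [map_monomial, monomial_mul, hmono, hmono, monomial_mul, ← Algebra.smul_def, map_smul,
          smul_eq_mul]
  have key : ∀ z ∈ Ideal.span (MvPolynomial.map (algebraMap k K) '' S), R z ∈ Ideal.span S := by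
    intro z hz
    induction hz using Submodule.span_induction with
    | zero => simp
    | add a b _ _ ha hb => rw [map_add]; exact add_mem ha hb
    | mem a ha =>
      obtain ⟨s, hs, rfl⟩ := ha
      rw [← mul_one (MvPolynomial.map (algebraMap k K) s), hmul]
      exact Ideal.mul_mem_right _ _ (Ideal.subset_span hs)
    | smul r a _ ha =>
      suffices h : ∀ r, R (r * a) ∈ Ideal.span S by exact h r
      clear ha
      intro r
      rename_i hmem
      induction hmem using Submodule.span_induction generalizing r with
      | zero => simp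
      | add x y _ _ hx hy => rw [mul_add, map_add]; exact add_mem (hx r) (hy r)
      | mem x hx =>
        obtain ⟨s, hs, rfl⟩ := hx
        rw [mul_comm, hmul]
        exact Ideal.mul_mem_right _ _ (Ideal.subset_span hs)
      | smul t x _ hx => rw [smul_eq_mul, ← mul_assoc]; exact hx (r * t)
  have h := key _ hf
  rwa [← mul_one (MvPolynomial.map (algebraMap k K) f), hmul,
    show R 1 = 1 from (hmono 0 1).trans (by rw [← (algebraMap k K).map_one, hρ1]; rfl), mul_one] at h

end Groth.Agent.Rad31
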