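import Mathlib

/-!
Separable models of the components and reducedness of standard étale fibres.
-/

set_option autoImplicit false
set_option linter.unusedSectionVars false
universe u

open Polynomial

namespace Groth.Agent.Rad31

/-- a monic separable polynomial over a reduced ring defines a reduced algebra -/
theorem isReduced_adjoinRoot {R : Type u} [CommRing R] [IsReduced R] {G : R[X]} (hG : G.Monic)
    (hsep : G.Separable) : IsReduced (AdjoinRoot G) := by
  refine ⟨fun z hz => ?_⟩
  obtain ⟨q, rfl⟩ := AdjoinRoot.mk_surjective z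
  rw [AdjoinRoot.mk_eq_zero, ← modByMonic_eq_zero_iff_dvd hG]
  obtain ⟨e, he⟩ := hz
  rw [← map_pow, AdjoinRoot.mk_eq_zero] at he
  ext i
  rw [Polynomial.coeff_zero]
  refine IsReduced.eq_zero _ ?_
  rw [nilpotent_iff_mem_prime]
  intro p hp
  let K := FractionRing (R ⧸ p)
  let χ : R →+* K := (algebraMap (R ⧸ p) K).comp (Ideal.Quotient.mk p)
  have h1 : G.map χ ∣ q.map χ := by
    refine hsep.map.squarefree.isRadical e _ ?_
    rw [← Polynomial.map_pow]
    exact Polynomial.map_dvd χ he
  have h2 : (q %ₘ G).map χ = 0 := by
    rw [map_modByMonic χ hG, modByMonic_eq_zero_iff_dvd (hG.map χ)]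
    exact h1
  have h3 := congrArg (fun r => Polynomial.coeff r i) h2
  simp only [Polynomial.coeff_map, Polynomial.coeff_zero] at h3
  rw [← Ideal.Quotient.eq_zero_iff_mem]
  apply IsFractionRing.injective (R ⧸ p) K
  rw [map_zero]
  exact h3

/-- over a perfect field every prime is the kernel of a map to a separably generated field
`K(Y)[Z]/(G)` -/
theorem exists_component_data {K : Type u} [Field K] [PerfectField K] {N : ℕ}
    (P : Ideal (MvPolynomial (Fin N) K)) [P.IsPrime] :
    ∃ (n : ℕ) (G : (FractionRing (MvPolynomial (Fin n) K))[X])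
      (ξ : Fin N → (FractionRing (MvPolynomial (Fin n) K))[X]),
      G.Monic ∧ G.Separable ∧ ∀ q, q ∈ P ↔ G ∣ MvPolynomial.aeval ξ q := by
  classical
  let T := MvPolynomial (Fin N) K ⧸ P
  let L := FractionRing T
  let x : Fin N → L := fun i => algebraMap T L (Ideal.Quotient.mk P (MvPolynomial.X i))
  have hfg : (IntermediateField.adjoin K (Set.range x) : IntermediateField K L) = ⊤ := by
    rw [eq_top_iff]
    intro z _
    obtain ⟨a, b, -, rfl⟩ := IsFractionRing.div_surjective T z
    have key : ∀ t : T, algebraMap T L t ∈ IntermediateField.adjoin K (Set.range x) := by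
      intro t
      obtain ⟨q, rfl⟩ := Ideal.Quotient.mk_surjective t
      have : algebraMap T L (Ideal.Quotient.mk P q) = MvPolynomial.aeval x q := by
        have h : ((IsScalarTower.toAlgHom K T L).comp (Ideal.Quotient.mkₐ K P)) = MvPolynomial.aeval x :=
          MvPolynomial.algHom_ext fun i => by simp [x]; rfl
        exact AlgHom.congr_fun h q
      rw [this]
      refine IntermediateField.algebra_adjoin_le_adjoin K _ ?_
      rw [Algebra.adjoin_range_eq_range_aeval]
      exact ⟨q, rfl⟩
    exact div_mem (key a) (key b)
  have : Algebra.EssFiniteType K L := IntermediateField.fg_top_iff.1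
    ⟨Finset.univ.image x, by simpa using hfg⟩
  obtain ⟨s, hs, hsep⟩ := exists_isTranscendenceBasis_and_isSeparable_of_perfectField (k := K) (K := L)
  let y : Fin s.card → L := fun i => (s.equivFin.symm i : L)
  have hy : AlgebraicIndependent K y := hs.1.comp _ s.equivFin.symm.injective
  have hrange : Set.range y = (s : Set L) := by
    ext z
    constructor
    · rintro ⟨i, rfl⟩; exact (s.equivFin.symm i).2
    · intro hz; exact ⟨s.equivFin ⟨z, hz⟩, by simp [y]⟩
  let F0 := IntermediateField.adjoin K (Set.range y)
  have hsep' : Algebra.IsSeparable F0 L := by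
    show Algebra.IsSeparable (IntermediateField.adjoin K (Set.range y)) L
    rw [hrange]; exact hsep
  have hfin : FiniteDimensional F0 L := by
    have h1 : IntermediateField.adjoin F0 (Set.range x) = ⊤ := by
      apply IntermediateField.restrictScalars_injective K
      rw [IntermediateField.restrictScalars_top, eq_top_iff, ← hfg, IntermediateField.adjoin_le_iff]
      exact fun a ha => IntermediateField.subset_adjoin F0 _ ha
    have h2 : FiniteDimensional F0 (IntermediateField.adjoin F0 (Set.range x)) :=
      IntermediateField.finiteDimensional_adjoin (S := Set.range x) fun a _ => Algebra.IsIntegral.isIntegral a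
    rw [h1] at h2
    exact Module.Finite.equiv IntermediateField.topEquiv.toLinearEquiv
  obtain ⟨θ, hθ⟩ := Field.exists_primitive_element F0 L
  have hint : IsIntegral F0 θ := Algebra.IsIntegral.isIntegral θ
  let e0 := hy.aevalEquivField
  let G0 : F0[X] := minpoly F0 θ
  have hxi : ∀ i, ∃ r : F0[X], Polynomial.aeval θ r = x i := by
    intro i
    have : x i ∈ IntermediateField.adjoin F0 {θ} := hθ ▸ IntermediateField.mem_top
    rw [← IntermediateField.mem_toSubalgebra, IntermediateField.adjoin_simple_toSubalgebra_of_isAlgebraic hint.isAlgebraic,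
      Algebra.adjoin_singleton_eq_range_aeval] at this
    exact this
  choose r hr using hxi
  let e1 : (FractionRing (MvPolynomial (Fin s.card) K))[X] ≃ₐ[K] F0[X] := Polynomial.mapAlgEquiv e0
  refine ⟨s.card, e1.symm G0, fun i => e1.symm (r i), ?_, ?_, fun q => ?_⟩
  · have h : G0.Monic := minpoly.monic hint
    exact (h.map (e0.symm : F0 →+* FractionRing (MvPolynomial (Fin s.card) K)) :)
  · have h : G0.Separable := Algebra.IsSeparable.isSeparable F0 θ
    exact (h.map (f := (e0.symm : F0 →+* FractionRing (MvPolynomial (Fin s.card) K))) :)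
  · rw [show (fun i => e1.symm (r i)) = e1.symm.toAlgHom ∘ r from rfl,
      show MvPolynomial.aeval (e1.symm.toAlgHom ∘ r) q = e1.symm.toAlgHom (MvPolynomial.aeval r q) from
        (MvPolynomial.comp_aeval_apply r e1.symm.toAlgHom q).symm]
    have h1 : e1.symm G0 ∣ e1.symm.toAlgHom (MvPolynomial.aeval r q) ↔ G0 ∣ MvPolynomial.aeval r q :=
      map_dvd_iff e1.symm
    rw [h1, minpoly.dvd_iff]
    have h2 : Polynomial.aeval θ (MvPolynomial.aeval r q) = MvPolynomial.aeval x q := by
      have h : ((Polynomial.aeval θ : F0[X] →ₐ[F0] L).restrictScalars K).comp (MvPolynomial.aeval r)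
          = MvPolynomial.aeval x := MvPolynomial.algHom_ext fun i => by simp [hr]
      exact AlgHom.congr_fun h q
    rw [h2]
    have h3 : algebraMap T L (Ideal.Quotient.mk P q) = MvPolynomial.aeval x q := by
      have h : ((IsScalarTower.toAlgHom K T L).comp (Ideal.Quotient.mkₐ K P)) = MvPolynomial.aeval x :=
        MvPolynomial.algHom_ext fun i => by simp [x]; rfl
      exact AlgHom.congr_fun h q
    rw [← h3, map_eq_zero_iff _ (IsFractionRing.injective T L), Ideal.Quotient.eq_zero_iff_mem]

end Groth.Agent.Rad31
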