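import Groth.Agent.Rad31.Base
import Groth.Agent.Rad31.Comp

/-!
A finite extension of the parameters over which the radical has reduced fibres.
-/

set_option autoImplicit false
set_option linter.unusedSectionVars false
universe u

open TensorProduct

namespace Groth.Agent.Rad31

theorem finiteType_pi {R : Type u} [CommRing R] {ι : Type u} [Finite ι] (E : ι → Type u)
    [∀ i, CommRing (E i)] [∀ i, Algebra R (E i)] [∀ i, Algebra.FiniteType R (E i)] :
    Algebra.FiniteType R (∀ i, E i) := by
  classical
  cases nonempty_fintype ι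
  choose s hs using fun i => (Algebra.FiniteType.out : (⊤ : Subalgebra R (E i)).FG)
  refine ⟨⟨Finset.univ.biUnion fun i => insert (Pi.single i 1) ((s i).image (Pi.single i)), ?_⟩⟩
  rw [eq_top_iff]
  intro x _
  set S := Algebra.adjoin R ((Finset.univ.biUnion fun i => insert (Pi.single i 1) ((s i).image (Pi.single i))
    : Finset (∀ i, E i)) : Set (∀ i, E i))
  have h1 : ∀ i, (Pi.single i 1 : ∀ i, E i) ∈ S := fun i => Algebra.subset_adjoin
    (Finset.mem_coe.2 (Finset.mem_biUnion.2 ⟨i, Finset.mem_univ _, Finset.mem_insert_self _ _⟩))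
  have key : ∀ i, ∀ a : E i, (Pi.single i a : ∀ i, E i) ∈ S := by
    intro i a
    have ha : a ∈ Algebra.adjoin R (s i : Set (E i)) := hs i ▸ Algebra.mem_top
    induction ha using Algebra.adjoin_induction with
    | mem y hy =>
      exact Algebra.subset_adjoin (Finset.mem_coe.2 (Finset.mem_biUnion.2
        ⟨i, Finset.mem_univ _, Finset.mem_insert_of_mem (Finset.mem_image_of_mem _ hy)⟩))
    | algebraMap r =>
      rw [Algebra.algebraMap_eq_smul_one, Pi.single_smul]
      exact S.smul_mem (h1 i) r
    | add a b _ _ ha hb => rw [Pi.single_add]; exact add_mem ha hb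
    | mul a b _ _ ha hb => rw [Pi.single_mul]; exact mul_mem ha hb
  rw [← Finset.univ_sum_single x]
  exact sum_mem fun i _ => key i (x i)

theorem isReduced_tensor_localizationAway {A' : Type u} [CommRing A'] {n : ℕ}
    (h : MvPolynomial (Fin n) A') (K : Type u) [Field K] [Algebra A' K] :
    IsReduced (K ⊗[A'] Localization.Away h) := by
  let B := MvPolynomial (Fin n) A'
  let Lq := Localization.Away h
  let T := B ⊗[A'] K
  have : IsReduced (K ⊗[A'] B) := isReduced_of_injective
    (MvPolynomial.algebraTensorAlgEquiv (σ := Fin n) A' K) (AlgEquiv.injective _)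
  have : IsReduced T := isReduced_of_injective (Algebra.TensorProduct.comm A' B K) (AlgEquiv.injective _)
  let g : T →ₐ[A'] Lq ⊗[A'] K :=
    Algebra.TensorProduct.map (IsScalarTower.toAlgHom A' B Lq) (AlgHom.id A' K)
  let : Algebra T (Lq ⊗[A'] K) := g.toRingHom.toAlgebra
  have : IsScalarTower B T (Lq ⊗[A'] K) := IsScalarTower.of_algebraMap_eq (R := B) (S := T) (A := Lq ⊗[A'] K) fun b => by
    show algebraMap B Lq b ⊗ₜ 1 = g (b ⊗ₜ 1)
    exact rfl
  have : IsLocalization (Algebra.algebraMapSubmonoid T (Submonoid.powers h)) (Lq ⊗[A'] K) :=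
    IsLocalization.tensorProduct_tensorProduct A' K (Submonoid.powers h) Lq (RingHom.ext fun b => by
      show g ((1 : B) ⊗ₜ b) = (1 : Lq) ⊗ₜ b
      exact (Algebra.TensorProduct.map_tmul _ _ _ _).trans (by rw [map_one]; rfl))
  have : IsReduced (Lq ⊗[A'] K) := isReduced_localizationPreserves
    (Algebra.algebraMapSubmonoid T (Submonoid.powers h)) (Lq ⊗[A'] K) inferInstance
  exact isReduced_of_injective (Algebra.TensorProduct.comm A' K Lq) (AlgEquiv.injective _)

open Polynomial in
/-- the model of one component -/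
theorem exists_component_model {Kb : Type u} [Field Kb] [PerfectField Kb] {N : ℕ}
    (P : Ideal (MvPolynomial (Fin N) Kb)) [P.IsPrime] :
    ∃ T : Finset Kb, ∀ (A' : Type u) [CommRing A'] (val : A' →+* Kb), Function.Injective val →
      ∀ d : Kb, d ≠ 0 → (∀ t ∈ T, d * t ∈ val.range) →
        ∃ (E : Type u) (_ : CommRing E) (_ : Algebra A' E) (_ : Algebra.FiniteType A' E)
          (π : MvPolynomial (Fin N) A' →ₐ[A'] E),
          (∀ q, π q = 0 ↔ MvPolynomial.map val q ∈ P) ∧
            ∀ (K : Type u) [Field K] [Algebra A' K], IsReduced (K ⊗[A'] E) := by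
  classical
  obtain ⟨n, G, ξ, hG, hsep, hP⟩ := exists_component_data P
  obtain ⟨a, b, hab⟩ := hsep
  let FF := FractionRing (MvPolynomial (Fin n) Kb)
  have hdiv : ∀ c : FF, ∃ uv : MvPolynomial (Fin n) Kb × MvPolynomial (Fin n) Kb,
      uv.2 ≠ 0 ∧ c = algebraMap _ FF uv.1 / algebraMap _ FF uv.2 := by
    intro c
    obtain ⟨u, v, hv, rfl⟩ := IsFractionRing.div_surjective (MvPolynomial (Fin n) Kb) c
    exact ⟨(u, v), nonZeroDivisors.ne_zero hv, rfl⟩
  choose uv huv0 huv using hdiv
  let cs : FF[X] → Finset FF := fun p => p.support.image p.coeff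
  let Sig : Finset FF := cs G ∪ cs a ∪ cs b ∪ Finset.univ.biUnion fun i => cs (ξ i)
  let T : Finset Kb := Sig.biUnion fun c =>
    (uv c).1.support.image (fun m => (uv c).1.coeff m) ∪ (uv c).2.support.image (fun m => (uv c).2.coeff m)
  refine ⟨T, fun A' _ val hval d hd hT => ?_⟩
  let lam : MvPolynomial (Fin n) A' →+* FF :=
    (algebraMap (MvPolynomial (Fin n) Kb) FF).comp (MvPolynomial.map val)
  have hlam : Function.Injective lam :=
    (IsFractionRing.injective _ FF).comp (MvPolynomial.map_injective val hval)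
  have hlift : ∀ c ∈ Sig, ∀ p : MvPolynomial (Fin n) Kb, (p = (uv c).1 ∨ p = (uv c).2) →
      ∃ p' : MvPolynomial (Fin n) A', MvPolynomial.map val p' = MvPolynomial.C d * p := by
    intro c hc p hp
    have hmem : ∀ m, d * p.coeff m ∈ val.range := by
      intro m
      by_cases hm : m ∈ p.support
      · refine hT _ (Finset.mem_biUnion.2 ⟨c, hc, ?_⟩)
        rcases hp with rfl | rfl
        · exact Finset.mem_union_left _ (Finset.mem_image_of_mem _ hm)
        · exact Finset.mem_union_right _ (Finset.mem_image_of_mem _ hm)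
      · rw [MvPolynomial.notMem_support_iff.1 hm, mul_zero]; exact zero_mem _
    choose w hw using hmem
    refine ⟨∑ m ∈ p.support, MvPolynomial.monomial m (w m), ?_⟩
    conv_rhs => rw [p.as_sum, Finset.mul_sum]
    rw [map_sum]
    exact Finset.sum_congr rfl fun m _ => by
      rw [MvPolynomial.map_monomial, hw, MvPolynomial.C_mul_monomial]
  choose nu hnu using fun c (hc : c ∈ Sig) => hlift c hc _ (Or.inl rfl)
  choose de hde using fun c (hc : c ∈ Sig) => hlift c hc _ (Or.inr rfl)
  let h : MvPolynomial (Fin n) A' := ∏ c ∈ Sig.attach, de c.1 c.2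
  have hde0 : ∀ c hc, lam (de c hc) ≠ 0 := by
    intro c hc
    have h2 : lam (de c hc) = algebraMap _ FF (MvPolynomial.C d * (uv c).2) := congrArg (algebraMap _ FF) (hde c hc)
    rw [h2, map_ne_zero_iff _ (IsFractionRing.injective _ FF)]
    exact mul_ne_zero (MvPolynomial.C_ne_zero.2 hd) (huv0 c)
  have hh : IsUnit (lam h) := by
    rw [map_prod, isUnit_iff_ne_zero, Finset.prod_ne_zero_iff]
    exact fun c _ => hde0 c.1 c.2
  let R := Localization.Away h
  let j : R →+* FF := IsLocalization.Away.lift h hh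
  have hj : ∀ x, j (algebraMap _ R x) = lam x := fun x => IsLocalization.Away.lift_eq h hh x
  have hjinj : Function.Injective j := by
    rw [injective_iff_map_eq_zero]
    intro z hz
    obtain ⟨⟨x, s⟩, hxs⟩ := IsLocalization.surj (Submonoid.powers h) z
    have h1 : lam x = 0 := by rw [← hj, ← hxs, map_mul, hz, zero_mul]
    have h2 : x = 0 := hlam (by rw [h1, map_zero])
    rw [h2, map_zero] at hxs
    exact (IsLocalization.map_units R s).mul_left_eq_zero.1 hxs
  have hrange : ∀ c ∈ Sig, c ∈ j.range := by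
    intro c hc
    have hu : IsUnit (algebraMap _ R (de c hc)) :=
      isUnit_of_dvd_unit (map_dvd _ (Finset.dvd_prod_of_mem (fun c : Sig => de c.1 c.2) (Finset.mem_attach _ ⟨c, hc⟩)))
        (IsLocalization.Away.algebraMap_isUnit h)
    refine ⟨algebraMap _ R (nu c hc) * ↑hu.unit⁻¹, ?_⟩
    have h1 : lam (nu c hc) = algebraMap _ FF (MvPolynomial.C d * (uv c).1) := congrArg (algebraMap _ FF) (hnu c hc)
    have h2 : lam (de c hc) = algebraMap _ FF (MvPolynomial.C d * (uv c).2) := congrArg (algebraMap _ FF) (hde c hc)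
    have h3 : j (↑hu.unit⁻¹) = (lam (de c hc))⁻¹ := by
      apply eq_inv_of_mul_eq_one_right
      rw [← hj, ← map_mul, IsUnit.mul_val_inv, map_one]
    rw [map_mul, hj, h3, ← div_eq_mul_inv, h1, h2, map_mul, map_mul, mul_div_mul_left]
    · exact (huv c).symm
    · rw [map_ne_zero_iff _ (IsFractionRing.injective _ FF)]
      exact MvPolynomial.C_ne_zero.2 hd
  have hlifts : ∀ p : FF[X], cs p ⊆ Sig → p ∈ Polynomial.lifts j := by
    intro p hp
    rw [Polynomial.lifts_iff_coeff_lifts]
    intro m
    by_cases hm : m ∈ p.support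
    · exact hrange _ (hp (Finset.mem_image_of_mem _ hm))
    · rw [Polynomial.notMem_support_iff.1 hm]; exact ⟨0, map_zero j⟩
  have hsG : cs G ⊆ Sig := fun c hc => by simp [Sig, hc]
  have hsa : cs a ⊆ Sig := fun c hc => by simp [Sig, hc]
  have hsb : cs b ⊆ Sig := fun c hc => by simp [Sig, hc]
  have hsξ : ∀ i, cs (ξ i) ⊆ Sig := fun i c hc => by
    simp only [Sig, Finset.mem_union, Finset.mem_biUnion]
    exact Or.inr ⟨i, Finset.mem_univ _, hc⟩
  obtain ⟨G', hG', -, hG'm⟩ := Polynomial.lifts_and_natDegree_eq_and_monic (hlifts G hsG) hG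
  obtain ⟨a', ha'⟩ := (Polynomial.mem_lifts _).1 (hlifts a hsa)
  obtain ⟨b', hb'⟩ := (Polynomial.mem_lifts _).1 (hlifts b hsb)
  choose ξ' hξ' using fun i => (Polynomial.mem_lifts _).1 (hlifts (ξ i) (hsξ i))
  have hsep' : G'.Separable := ⟨a', b', Polynomial.map_injective j hjinj (by
    rw [Polynomial.map_add, Polynomial.map_mul, Polynomial.map_mul, Polynomial.map_one,
      ← Polynomial.derivative_map, ha', hb', hG']
    exact hab)⟩
  have : Algebra.FiniteType A' R := Algebra.FiniteType.trans (S := MvPolynomial (Fin n) A') inferInstance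
    (IsLocalization.finiteType_of_monoid_fg (Submonoid.powers h) R)
  refine ⟨AdjoinRoot G', inferInstance, inferInstance,
    Algebra.FiniteType.trans (S := R) inferInstance inferInstance,
    MvPolynomial.aeval (fun i => AdjoinRoot.mk G' (ξ' i)), fun q => ?_, fun K _ _ => ?_⟩
  · rw [hP]
    have h1 : MvPolynomial.aeval (fun i => AdjoinRoot.mk G' (ξ' i)) q
        = AdjoinRoot.mk G' (MvPolynomial.aeval ξ' q) := by
      have e : MvPolynomial.aeval (R := A') (fun i => AdjoinRoot.mk G' (ξ' i))
          = (((AdjoinRoot.mkₐ G').restrictScalars A')).comp (MvPolynomial.aeval ξ') :=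
        MvPolynomial.algHom_ext fun i => by simp
      exact AlgHom.congr_fun e q
    have h2 : (MvPolynomial.aeval (R := A') ξ' q).map j = MvPolynomial.aeval ξ (MvPolynomial.map val q) := by
      have e : (Polynomial.mapRingHom j).comp (MvPolynomial.aeval (R := A') ξ').toRingHom
          = (MvPolynomial.aeval ξ).toRingHom.comp (MvPolynomial.map val) := by
        apply MvPolynomial.ringHom_ext
        · intro r
          simp only [RingHom.coe_comp, AlgHom.toRingHom_eq_coe, RingHom.coe_coe, Function.comp_apply,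
            MvPolynomial.map_C, MvPolynomial.algHom_C, Polynomial.coe_mapRingHom]
          rw [Polynomial.algebraMap_apply, Polynomial.map_C, Polynomial.algebraMap_apply]
          congr 1
          rw [IsScalarTower.algebraMap_apply A' (MvPolynomial (Fin n) A') R, hj,
            IsScalarTower.algebraMap_apply Kb (MvPolynomial (Fin n) Kb) FF]
          simp [lam]
        · intro i
          simp [hξ']
      exact RingHom.congr_fun e q
    rw [h1, AdjoinRoot.mk_eq_zero, ← Polynomial.map_dvd_map j hjinj hG'm, hG', h2]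
  · have := isReduced_tensor_localizationAway h K
    let q0 : (K ⊗[A'] R)[X] := G'.map (Algebra.TensorProduct.includeRight : R →ₐ[A'] K ⊗[A'] R).toRingHom
    have : IsReduced (AdjoinRoot q0) := isReduced_adjoinRoot (hG'm.map _) hsep'.map
    exact isReduced_of_injective (AdjoinRoot.tensorAlgEquiv (T := K) G' q0 rfl) (AlgEquiv.injective _)

/-- finitely many generators of an ideal extended along `A' → Frac A'` -/
theorem exists_mul_mem_span {A' Kb : Type u} [CommRing A'] [IsDomain A'] [Field Kb] (val : A' →+* Kb)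
    (hval : Function.Injective val) {σ : Type*} (S : Set (MvPolynomial σ A')) (q : MvPolynomial σ A')
    (hq : MvPolynomial.map val q ∈ Ideal.span (MvPolynomial.map val '' S)) :
    ∃ d : A', d ≠ 0 ∧ MvPolynomial.C d * q ∈ Ideal.span S := by
  let Q := FractionRing A'
  let l : Q →+* Kb := IsFractionRing.lift hval
  letI : Algebra Q Kb := l.toAlgebra
  have hl : ∀ p : MvPolynomial σ A', MvPolynomial.map (algebraMap Q Kb) (MvPolynomial.map (algebraMap A' Q) p)
      = MvPolynomial.map val p := fun p => by
    rw [MvPolynomial.map_map]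
    congr 1
    exact congrArg _ (RingHom.ext fun a => IsFractionRing.lift_algebraMap hval a)
  have h1 : MvPolynomial.map (algebraMap A' Q) q ∈ Ideal.span (MvPolynomial.map (algebraMap A' Q) '' S) := by
    refine mem_span_of_map_mem_span (K := Kb) ?_
    rw [hl, Set.image_image]
    simpa only [hl] using hq
  letI : Algebra (MvPolynomial σ A') (MvPolynomial σ Q) := (MvPolynomial.map (algebraMap A' Q)).toAlgebra
  have : IsLocalization ((nonZeroDivisors A').map (MvPolynomial.C (σ := σ))) (MvPolynomial σ Q) :=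
    MvPolynomial.isLocalization _ Q
  rw [← Ideal.map_span] at h1
  obtain ⟨_, ⟨d, hd, rfl⟩, hdq⟩ := (IsLocalization.algebraMap_mem_map_algebraMap_iff
    ((nonZeroDivisors A').map (MvPolynomial.C (σ := σ))) (MvPolynomial σ Q) _ q).1 h1
  exact ⟨d, nonZeroDivisors.ne_zero hd, hdq⟩

set_option maxHeartbeats 800000 in
/-- generators of the radical with reduced fibres, after a finite extension of the parameters -/
theorem exists_model {A : Type u} [CommRing A] [IsDomain A] [IsNoetherianRing A] {N M : ℕ}
    (F : Fin M → MvPolynomial (Fin N) A) :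
    ∃ (A' : Type u) (_ : CommRing A') (_ : IsDomain A') (_ : Algebra A A') (_ : Module.Finite A A')
      (_ : FaithfulSMul A A') (r : ℕ) (g : Fin r → MvPolynomial (Fin N) A') (f' : A'), f' ≠ 0 ∧
      ∀ (K : Type u) [Field K] (φ' : A' →+* K), φ' f' ≠ 0 →
        Ideal.span (Set.range fun i => MvPolynomial.map φ' (g i)) =
          (Ideal.span (Set.range fun i =>
            MvPolynomial.map φ' (MvPolynomial.map (algebraMap A A') (F i)))).radical := by
  classical
  let κ := FractionRing A
  let Kb := AlgebraicClosure κ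
  let Ib : Ideal (MvPolynomial (Fin N) Kb) :=
    Ideal.span (Set.range fun i => MvPolynomial.map (algebraMap A Kb) (F i))
  have : Finite Ib.minimalPrimes :=
    (Ideal.finite_minimalPrimes_of_isNoetherianRing (MvPolynomial (Fin N) Kb) Ib).to_subtype
  cases nonempty_fintype Ib.minimalPrimes
  choose T hT using fun P : Ib.minimalPrimes =>
    haveI : (P : Ideal (MvPolynomial (Fin N) Kb)).IsPrime := P.2.1.1
    exists_component_model (P : Ideal (MvPolynomial (Fin N) Kb))
  have : Algebra.IsAlgebraic A κ := IsLocalization.isAlgebraic κ (nonZeroDivisors A)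
  have : Algebra.IsAlgebraic A Kb := Algebra.IsAlgebraic.trans A κ Kb
  obtain ⟨d, hd, hdT⟩ := Algebra.IsAlgebraic.exists_integral_multiples A (Finset.univ.biUnion T)
  have hAinj : Function.Injective (algebraMap A Kb) := by
    rw [IsScalarTower.algebraMap_eq A κ Kb]
    exact (algebraMap κ Kb).injective.comp (IsFractionRing.injective A κ)
  let A' : Subalgebra A Kb := Algebra.adjoin A (((Finset.univ.biUnion T).image (d • ·) : Finset Kb) : Set Kb)
  have : Module.Finite A A' := Module.Finite.iff_fg.2 (fg_adjoin_of_finite (Finset.finite_toSet _) (by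
    intro x hx
    rw [Finset.mem_coe, Finset.mem_image] at hx
    obtain ⟨t, ht, rfl⟩ := hx
    exact hdT t ht))
  have : FaithfulSMul A A' := (faithfulSMul_iff_algebraMap_injective A A').2 fun a b h =>
    hAinj (congrArg Subtype.val h)
  have : IsNoetherianRing A' := IsNoetherianRing.of_finite A A'
  let val : A' →+* Kb := A'.val.toRingHom
  have hval : Function.Injective val := Subtype.val_injective
  have hd' : algebraMap A Kb d ≠ 0 := (map_ne_zero_iff _ hAinj).2 hd
  have hdT' : ∀ P : Ib.minimalPrimes, ∀ t ∈ T P, algebraMap A Kb d * t ∈ val.range := fun P t ht =>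
    ⟨⟨d • t, Algebra.subset_adjoin (Finset.mem_coe.2 (Finset.mem_image_of_mem _
      (Finset.mem_biUnion.2 ⟨P, Finset.mem_univ _, ht⟩)))⟩, Algebra.smul_def _ _⟩
  choose E i1 i2 i3 π hπ hred using fun P => hT P A' val hval _ hd' (hdT' P)
  let C := ∀ P, E P
  have : Algebra.FiniteType A' C := finiteType_pi E
  let B := MvPolynomial (Fin N) A'
  let PP : B →ₐ[A'] C := AlgHom.pi π
  letI : Algebra B C := PP.toRingHom.toAlgebra
  have : IsScalarTower A' B C := IsScalarTower.of_algebraMap_eq fun a => (PP.commutes a).symm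
  have : Algebra.FiniteType B C := Algebra.FiniteType.of_restrictScalars_finiteType A' B C
  obtain ⟨f, hf0, hf⟩ := exists_kernel_baseChange (A := A') (B := B) (C := C) (Algebra.linearMap B C)
  obtain ⟨G, hG⟩ := (IsNoetherian.noetherian (RingHom.ker PP.toRingHom) : (RingHom.ker PP.toRingHom).FG)
  let g : Fin G.card → B := fun i => (G.equivFin.symm i : B)
  have hg : Ideal.span (Set.range g) = RingHom.ker PP.toRingHom := by
    rw [← hG]
    congr 1
    ext z
    constructor
    · rintro ⟨i, rfl⟩; exact (G.equivFin.symm i).2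
    · intro hz; exact ⟨G.equivFin ⟨z, hz⟩, by simp [g]⟩
  let F' : Fin M → B := fun i => MvPolynomial.map (algebraMap A A') (F i)
  have hF' : ∀ i, MvPolynomial.map val (F' i) = MvPolynomial.map (algebraMap A Kb) (F i) := fun i => by
    rw [MvPolynomial.map_map]; rfl
  have hker : ∀ q : B, q ∈ RingHom.ker PP.toRingHom ↔ MvPolynomial.map val q ∈ Ib.radical := by
    intro q
    rw [← Ideal.sInf_minimalPrimes, Submodule.mem_sInf, RingHom.mem_ker]
    constructor
    · intro hq P hP
      exact (hπ ⟨P, hP⟩ q).1 (congrFun hq _)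
    · intro hq
      exact funext fun P => (hπ P q).2 (hq _ P.2)
  have hpow : ∀ i, ∃ e : A', e ≠ 0 ∧ ∃ n : ℕ, MvPolynomial.C e * g i ^ n ∈ Ideal.span (Set.range F') := by
    intro i
    obtain ⟨n, hn⟩ := (hker (g i)).1 (hg ▸ Ideal.subset_span ⟨i, rfl⟩)
    have hn' : MvPolynomial.map val (g i ^ n) ∈ Ideal.span (MvPolynomial.map val '' Set.range F') := by
      rw [map_pow, ← Set.range_comp]
      convert hn using 3
      exact funext hF'
    obtain ⟨e, he, hmem⟩ := exists_mul_mem_span val hval _ _ hn'
    exact ⟨e, he, n, hmem⟩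
  choose e he0 ne hne using hpow
  refine ⟨A', inferInstance, inferInstance, inferInstance, inferInstance, inferInstance, G.card, g,
    f * ∏ i, e i, mul_ne_zero hf0 (Finset.prod_ne_zero_iff.2 fun i _ => he0 i), fun K _ φ' hφ' => ?_⟩
  rw [map_mul, map_prod, mul_ne_zero_iff, Finset.prod_ne_zero_iff] at hφ'
  letI : Algebra A' K := φ'.toAlgebra
  refine le_antisymm ?_ ?_
  · rw [Ideal.span_le]
    rintro _ ⟨i, rfl⟩
    refine ⟨ne i, ?_⟩
    have h := Ideal.mem_map_of_mem (MvPolynomial.map φ') (hne i)
    rw [Ideal.map_span, ← Set.range_comp, map_mul, map_pow, MvPolynomial.map_C] at h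
    exact (Ideal.unit_mul_mem_iff_mem _
      ((isUnit_iff_ne_zero.2 (hφ'.2 i (Finset.mem_univ _))).map MvPolynomial.C)).1 h
  · intro q hq
    let Θ := MvPolynomial.algebraTensorAlgEquiv (σ := Fin N) A' K
    let PQ : K ⊗[A'] B →ₐ[K] K ⊗[A'] C := Algebra.TensorProduct.map (AlgHom.id K K) PP
    have hredC : IsReduced (K ⊗[A'] C) := by
      have : ∀ P, IsReduced (K ⊗[A'] E P) := fun P => hred P K
      exact isReduced_of_injective (Algebra.TensorProduct.piRight A' K K E) (AlgEquiv.injective _)
    have hI : Ideal.span (Set.range fun i => MvPolynomial.map φ' (F' i))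
        ≤ RingHom.ker (PQ.comp Θ.symm.toAlgHom).toRingHom := by
      rw [Ideal.span_le]
      rintro _ ⟨i, rfl⟩
      show PQ (Θ.symm (MvPolynomial.map φ' (F' i))) = 0
      have h1 : Θ.symm (MvPolynomial.map φ' (F' i)) = 1 ⊗ₜ F' i := by
        rw [AlgEquiv.symm_apply_eq, MvPolynomial.algebraTensorAlgEquiv_tmul, one_smul]
        rfl
      have h2 : PP (F' i) = 0 :=
        (hker (F' i)).2 (Ideal.le_radical (hF' i ▸ Ideal.subset_span ⟨i, rfl⟩))
      rw [h1, Algebra.TensorProduct.map_tmul, h2, tmul_zero]
    obtain ⟨n, hn⟩ := hq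
    have h0 : PQ (Θ.symm q) = 0 := by
      refine IsReduced.eq_zero _ ⟨n, ?_⟩
      rw [← map_pow, ← map_pow]
      exact hI hn
    have hz : (((Algebra.linearMap B C).restrictScalars A').lTensor K) (Θ.symm q) = 0 := by
      rw [← h0]
      generalize Θ.symm q = z
      induction z using TensorProduct.induction_on with
      | zero => simp
      | tmul a b => rfl
      | add a b ha hb => rw [map_add, map_add, ha, hb]
    obtain ⟨w, hw⟩ := hf K hφ'.1 (Θ.symm q) hz
    rw [← Θ.apply_symm_apply q, ← hw]
    clear hw hz h0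
    induction w using TensorProduct.induction_on with
    | zero => rw [map_zero, map_zero]; exact zero_mem _
    | add a b ha hb => rw [map_add, map_add]; exact add_mem ha hb
    | tmul a m =>
      rw [LinearMap.lTensor_tmul]
      show Θ (a ⊗ₜ[A'] (m : B)) ∈ _
      rw [MvPolynomial.algebraTensorAlgEquiv_tmul, MvPolynomial.smul_eq_C_mul]
      refine Ideal.mul_mem_left _ _ ?_
      have hm : (m : B) ∈ Ideal.span (Set.range g) := hg ▸ (show PP (m : B) = 0 from m.2)
      have := Ideal.mem_map_of_mem (MvPolynomial.map (algebraMap A' K)) hm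
      rwa [Ideal.map_span, ← Set.range_comp] at this

end Groth.Agent.Rad31
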