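import Groth.Agent.Rad31.Syz
import Groth.Agent.Rad31.Model

/-!
The degree bound for radicals.
-/

set_option autoImplicit false
set_option linter.unusedSectionVars false
universe u

open MvPolynomial

namespace Groth.Agent.Rad31

set_option synthInstance.maxHeartbeats 100000 in
/-- points extend to finite extensions of the parameters -/
theorem exists_point_lift {A₁ A' : Type u} [CommRing A₁] [IsDomain A₁] [CommRing A'] [IsDomain A'] [Algebra A₁ A']
    [Module.Finite A₁ A'] [FaithfulSMul A₁ A'] {k : Type u} [Field k] (ψ : A₁ →+* k) :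
    ∃ φ' : A' →+* AlgebraicClosure k,
      φ'.comp (algebraMap A₁ A') = (algebraMap k (AlgebraicClosure k)).comp ψ := by
    have hinj : Function.Injective (algebraMap A₁ A') := FaithfulSMul.algebraMap_injective A₁ A'
    let K := AlgebraicClosure k
    let p0 := RingHom.ker ψ
    have hp0 : p0.IsPrime := RingHom.ker_isPrime ψ
    obtain ⟨q, -, hq, hqp⟩ := Ideal.exists_ideal_over_prime_of_isIntegral p0 (⊥ : Ideal A') (by
      rw [← RingHom.ker_eq_comap_bot, (RingHom.injective_iff_ker_eq_bot _).1 hinj]; exact bot_le)
    let R0 := A₁ ⧸ p0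
    let Q := A' ⧸ q
    let ρ : A₁ →+* Q := (Ideal.Quotient.mk q).comp (algebraMap A₁ A')
    have hρ : RingHom.ker ρ = p0 := by rw [← hqp, ← RingHom.comap_ker, Ideal.mk_ker]
    let ρ0 : R0 →+* Q := Ideal.Quotient.lift p0 ρ hρ.ge
    have hρ0 : Function.Injective ρ0 := RingHom.lift_injective_of_ker_le_ideal p0 hρ.ge hρ.le
    let ψbar : R0 →+* K := (algebraMap k K).comp (RingHom.kerLift ψ)
    have hψbar : Function.Injective ψbar := (algebraMap k K).injective.comp (RingHom.kerLift_injective ψ)
    let _ : Algebra R0 K := ψbar.toAlgebra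
    let _ : Algebra R0 Q := ρ0.toAlgebra
    have : IsScalarTower A₁ R0 Q := IsScalarTower.of_algebraMap_eq (R := A₁) (S := R0) (A := Q) fun a => rfl
    have : Module.IsTorsionFree R0 K := by
      have : FaithfulSMul R0 K := (faithfulSMul_iff_algebraMap_injective _ _).2 hψbar
      infer_instance
    have : Module.IsTorsionFree R0 Q := by
      have : FaithfulSMul R0 Q := (faithfulSMul_iff_algebraMap_injective _ _).2 hρ0
      infer_instance
    have : Algebra.IsIntegral A₁ Q := inferInstance
    have : Algebra.IsAlgebraic R0 Q := by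
      have : Algebra.IsIntegral R0 Q := ⟨fun x => (Algebra.IsIntegral.isIntegral (R := A₁) x).tower_top⟩
      exact Algebra.IsIntegral.isAlgebraic
    let l : Q →ₐ[R0] K := IsAlgClosed.lift
    exact ⟨l.toRingHom.comp (Ideal.Quotient.mk q), RingHom.ext fun a => l.commutes (Ideal.Quotient.mk p0 a)⟩

/-- the radical at one point -/
theorem radical_le_of_point {A' : Type u} [CommRing A'] {N r e D d : ℕ} {k K : Type u} [Field k] [Field K]
    [Algebra k K] (φ' : A' →+* K) (s : Fin e → A')
    (hmem : ∀ a : A', φ' a ∈ Submodule.span k (Set.range fun i => φ' (s i)))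
    (g : Fin r → MvPolynomial (Fin N) A') (hg : ∀ j, (g j).totalDegree ≤ d)
    (hD : ∀ (e' : ℕ), e' ≤ e → ∀ (S : Type u) [CommRing S] [Algebra k S] (b : Module.Basis (Fin e') k S)
      (g : Fin r → MvPolynomial (Fin N) S), (∀ j, (g j).totalDegree ≤ d) →
        (Ideal.span (Set.range g)).comap (MvPolynomial.map (algebraMap k S)) ≤
          Ideal.span {f | MvPolynomial.map (algebraMap k S) f ∈ Ideal.span (Set.range g) ∧ f.totalDegree ≤ D})
    (I : Ideal (MvPolynomial (Fin N) k))
    (hrad : Ideal.span (Set.range fun j => MvPolynomial.map φ' (g j))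
      = (I.map (MvPolynomial.map (algebraMap k K))).radical) :
    I.radical ≤ Ideal.span {q | q ∈ I.radical ∧ q.totalDegree ≤ D} := by
  -- the subfield generated by the point
  let Sm : Submodule k K := Submodule.span k (Set.range fun i => φ' (s i))
  have hmemS : ∀ a : A', φ' a ∈ Sm := hmem
  let S : Subalgebra k K := Sm.toSubalgebra (by simpa using hmemS 1) (fun x y hx hy => by
    induction hx using Submodule.span_induction with
    | mem x hx =>
      obtain ⟨i, rfl⟩ := hx
      induction hy using Submodule.span_induction with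
      | mem y hy =>
        obtain ⟨j, rfl⟩ := hy
        rw [← map_mul]; exact hmemS _
      | zero => rw [mul_zero]; exact zero_mem _
      | add a b _ _ ha hb => rw [mul_add]; exact add_mem ha hb
      | smul c a _ ha => rw [mul_smul_comm]; exact Sm.smul_mem _ ha
    | zero => rw [zero_mul]; exact zero_mem _
    | add a b _ _ ha hb => rw [add_mul]; exact add_mem ha hb
    | smul c a _ ha => rw [smul_mul_assoc]; exact Sm.smul_mem _ ha)
  have : Module.Finite k Sm := Module.Finite.span_of_finite k (Set.finite_range _)
  have : Module.Finite k S := this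
  have hrank : Module.finrank k S ≤ e :=
    (finrank_range_le_card (R := k) fun i => φ' (s i)).trans (Fintype.card_fin e).le
  have hSf : IsField S := by
    have : Algebra.IsIntegral k S := inferInstance
    exact isField_of_isIntegral_of_isField' (Field.toIsField k)
  letI : Field S := hSf.toField
  let b := Module.finBasis k S
  let φS : A' →+* S := φ'.codRestrict S hmemS
  let gS : Fin r → MvPolynomial (Fin N) S := fun j => MvPolynomial.map φS (g j)
  have hgS : ∀ j, (gS j).totalDegree ≤ d := fun j =>
    le_trans (Finset.sup_mono (MvPolynomial.support_map_subset _ _)) (hg j)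
  have hgK : ∀ j, MvPolynomial.map (algebraMap S K) (gS j) = MvPolynomial.map φ' (g j) := fun j => by
    rw [MvPolynomial.map_map]; rfl
  have hkS : ∀ q : MvPolynomial (Fin N) k,
      MvPolynomial.map (algebraMap S K) (MvPolynomial.map (algebraMap k S) q) = MvPolynomial.map (algebraMap k K) q :=
    fun q => by rw [MvPolynomial.map_map, ← IsScalarTower.algebraMap_eq]
  have hto : ∀ q ∈ I.radical, MvPolynomial.map (algebraMap k S) q ∈ Ideal.span (Set.range gS) := by
    intro q hq
    refine mem_span_of_map_mem_span (K := K) ?_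
    rw [hkS, ← Set.range_comp]
    have h1 : MvPolynomial.map (algebraMap k K) q ∈ (I.map (MvPolynomial.map (algebraMap k K))).radical :=
      Ideal.map_radical_le _ (Ideal.mem_map_of_mem _ hq)
    rw [← hrad] at h1
    convert h1 using 3
    exact funext hgK
  have hfrom : ∀ q, MvPolynomial.map (algebraMap k S) q ∈ Ideal.span (Set.range gS) → q ∈ I.radical := by
    intro q hq
    have h1 := Ideal.mem_map_of_mem (MvPolynomial.map (algebraMap S K)) hq
    rw [Ideal.map_span, ← Set.range_comp, hkS] at h1
    have h2 : MvPolynomial.map (algebraMap k K) q ∈ (I.map (MvPolynomial.map (algebraMap k K))).radical := by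
      rw [← hrad]
      convert h1 using 3
      exact (funext hgK).symm
    obtain ⟨n, hn⟩ := h2
    refine ⟨n, ?_⟩
    rw [← Ideal.span_eq I]
    refine mem_span_of_map_mem_span (K := K) ?_
    rw [map_pow]
    exact hn
  intro q hq
  have h := hD _ hrank S b gS hgS (show q ∈ Ideal.comap _ _ from hto q hq)
  refine Ideal.span_mono ?_ h
  exact fun z hz => ⟨hfrom z hz.1, hz.2⟩

theorem exists_radical_bound_family {A : Type u} [CommRing A] [IsNoetherianRing A] {N M : ℕ}
    (F : Fin M → MvPolynomial (Fin N) A) :
    ∃ D, ∀ (k : Type u) [Field k] (φ : A →+* k),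
      (Ideal.span (Set.range fun i => MvPolynomial.map φ (F i))).radical ≤
        Ideal.span {q | q ∈ (Ideal.span (Set.range fun i => MvPolynomial.map φ (F i))).radical ∧
          q.totalDegree ≤ D} := by
  classical
  refine exists_bound _ (fun D D' hD k _ φ h => h.trans (Ideal.span_mono fun q hq => ⟨hq.1, hq.2.trans hD⟩))
    fun p hp => ?_
  let A₁ := A ⧸ p
  obtain ⟨A', _, _, _, _, _, r, g, f', hf', hgood⟩ :=
    exists_model (fun i => MvPolynomial.map (Ideal.Quotient.mk p) (F i) : Fin M → MvPolynomial (Fin N) A₁)
  have hinj : Function.Injective (algebraMap A₁ A') := FaithfulSMul.algebraMap_injective A₁ A'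
  -- an element of `A` all of whose points lift
  have hcomap : (Ideal.span {f'}).comap (algebraMap A₁ A') ≠ ⊥ :=
    Ideal.comap_ne_bot_of_integral_mem hf' (Ideal.mem_span_singleton_self f') (Algebra.IsIntegral.isIntegral f')
  obtain ⟨f, hf, hf0⟩ := Submodule.exists_mem_ne_zero_of_ne_bot hcomap
  obtain ⟨f, rfl⟩ := Ideal.Quotient.mk_surjective f
  obtain ⟨e, s, hs⟩ := Module.Finite.exists_fin (R := A₁) (M := A')
  let d := Finset.univ.sup fun j => (g j).totalDegree
  choose D hD using fun e' => exists_contraction_bound.{u} N d r e'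
  refine ⟨f, fun h => hf0 (Ideal.Quotient.eq_zero_iff_mem.2 h), (Finset.range (e + 1)).sup D,
    fun k _ φ hker hφf => ?_⟩
  let ψ : A₁ →+* k := Ideal.Quotient.lift p φ hker
  let K := AlgebraicClosure k
  obtain ⟨φ', hφ'⟩ := exists_point_lift (A' := A') ψ
  have hφ'f : φ' f' ≠ 0 := by
    obtain ⟨c, hc⟩ := Ideal.mem_span_singleton.1 hf
    intro h
    apply hφf
    apply (algebraMap k K).injective
    have := congrArg φ' hc
    rw [map_mul, h, zero_mul, ← RingHom.comp_apply, hφ'] at this
    rw [map_zero]; exact this
  have hF : ∀ i, MvPolynomial.map φ' (MvPolynomial.map (algebraMap A₁ A') (MvPolynomial.map (Ideal.Quotient.mk p) (F i)))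
      = MvPolynomial.map (algebraMap k K) (MvPolynomial.map φ (F i)) := fun i => by
    rw [MvPolynomial.map_map, MvPolynomial.map_map, MvPolynomial.map_map, hφ']
    rfl
  have hrad := (hgood K φ' hφ'f).trans (congrArg (fun f => Ideal.radical (Ideal.span (Set.range f)))
    (funext hF : _ = fun i => MvPolynomial.map (algebraMap k K) (MvPolynomial.map φ (F i))))
  refine radical_le_of_point (d := d) φ' s ?_ g
    (fun j => Finset.le_sup (f := fun j => (g j).totalDegree) (Finset.mem_univ j))
    (fun e' he' S _ _ b g' hg' => (hD e' k S b g' hg').trans (Ideal.span_mono fun z hz => ⟨hz.1,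
      hz.2.trans (Finset.le_sup (f := D) (Finset.mem_range.2 (by omega)))⟩)) _ ?_
  · intro a
    have ha : a ∈ Submodule.span A₁ (Set.range s) := hs ▸ Submodule.mem_top
    induction ha using Submodule.span_induction with
    | mem x hx =>
      obtain ⟨i, rfl⟩ := hx
      exact Submodule.subset_span ⟨i, rfl⟩
    | zero => rw [map_zero]; exact zero_mem _
    | add x y _ _ hx hy => rw [map_add]; exact add_mem hx hy
    | smul c x _ hx =>
      rw [Algebra.smul_def, map_mul, ← RingHom.comp_apply, hφ', RingHom.comp_apply, ← Algebra.smul_def]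
      exact Submodule.smul_mem _ _ hx
  · rw [hrad, Ideal.map_span, ← Set.range_comp]
    rfl

/-- radicals of ideals generated in bounded degree are generated in bounded degree -/
theorem exists_radical_bound (N : ℕ) :
    ∃ R : ℕ → ℕ, ∀ (k₀ : Type u) [Field k₀] (m : ℕ) (S : Set (MvPolynomial (Fin N) k₀)),
      (∀ p ∈ S, p.totalDegree ≤ m) →
        ∃ S' : Set (MvPolynomial (Fin N) k₀), (∀ q ∈ S', q.totalDegree ≤ R m) ∧
          Ideal.span S' = (Ideal.span S).radical := by
  classical
  have key : ∀ m, ∃ D, ∀ (k : Type u) [Field k] (S : Set (MvPolynomial (Fin N) k)),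
      (∀ p ∈ S, p.totalDegree ≤ m) →
      (Ideal.span S).radical ≤ Ideal.span {q | q ∈ (Ideal.span S).radical ∧ q.totalDegree ≤ D} := by
    intro m
    let M := Fintype.card (Fin N → Fin (m + 1))
    obtain ⟨A, _, _, F, hF⟩ := exists_universal.{u} N m (Fin M)
    obtain ⟨D, hD⟩ := exists_radical_bound_family F
    refine ⟨D, fun k _ S hS => ?_⟩
    -- finitely many elements of `S` suffice
    let V : Submodule k (MvPolynomial (Fin N) k) := Submodule.span k (Set.range fun g : Fin N → Fin (m + 1) =>
      (monomial (Finsupp.equivFunOnFinite.symm fun j => (g j : ℕ)) 1 : MvPolynomial (Fin N) k))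
    have hV : Submodule.span k S ≤ V := by
      rw [Submodule.span_le]
      intro p hp
      rw [p.as_sum]
      refine Submodule.sum_mem _ fun a ha => ?_
      have hle : ∀ j, a j < m + 1 := fun j => by
        have h1 := MvPolynomial.le_totalDegree ha
        have h2 : a j ≤ a.sum fun _ e => e := by
          by_cases hj : j ∈ a.support
          · exact Finset.single_le_sum (f := fun j => a j) (fun _ _ => Nat.zero_le _) hj
          · simp [Finsupp.notMem_support_iff.1 hj]
        have := hS p hp
        omega
      have : (monomial a (p.coeff a) : MvPolynomial (Fin N) k) = p.coeff a • (monomial a 1 : MvPolynomial (Fin N) k) := by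
        rw [MvPolynomial.smul_monomial, smul_eq_mul, mul_one]
      rw [this]
      refine Submodule.smul_mem _ _ (Submodule.subset_span ⟨fun j => ⟨a j, hle j⟩, ?_⟩)
      exact congrArg (fun m : Fin N →₀ ℕ => (monomial m (1 : k) : MvPolynomial (Fin N) k))
        (Finsupp.ext fun j => rfl)
    have : Module.Finite k V := Module.Finite.span_of_finite k (Set.finite_range _)
    have : Module.Finite k (Submodule.span k S) := Submodule.finiteDimensional_of_le hV
    have hdim : Module.finrank k (Submodule.span k S) ≤ M :=
      (Submodule.finrank_mono hV).trans (finrank_range_le_card _)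
    let b := Module.finBasis k (Submodule.span k S)
    let W : Fin M → MvPolynomial (Fin N) k := fun i =>
      if h : (i : ℕ) < Module.finrank k (Submodule.span k S) then (b ⟨i, h⟩ : MvPolynomial (Fin N) k) else 0
    have hWdeg : ∀ i, (W i).totalDegree ≤ m := by
      intro i
      simp only [W]
      split_ifs with h
      · have hle : Submodule.span k S ≤ MvPolynomial.restrictTotalDegree (Fin N) k m :=
          Submodule.span_le.2 fun p hp => (MvPolynomial.mem_restrictTotalDegree _ _ _).2 (hS p hp)
        exact (MvPolynomial.mem_restrictTotalDegree _ _ _).1 (hle (b ⟨i, h⟩).2)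
      · simp
    obtain ⟨φ, hφ⟩ := hF k W hWdeg
    have hspan : Ideal.span (Set.range W) = Ideal.span S := by
      refine le_antisymm (Ideal.span_le.2 ?_) (Ideal.span_le.2 ?_)
      · rintro _ ⟨i, rfl⟩
        simp only [W]
        split_ifs with h
        · exact (Submodule.span_le (R := k) (p := (Ideal.span S).restrictScalars k)).2 Ideal.subset_span (b ⟨i, h⟩).2
        · exact zero_mem _
      · intro p hp
        have hrepr := congrArg Subtype.val (b.sum_repr ⟨p, Submodule.subset_span hp⟩)
        rw [SetLike.mem_coe]
        simp only [AddSubmonoidClass.coe_finsetSum, Submodule.coe_smul] at hrepr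
        rw [← hrepr]
        refine Ideal.sum_mem _ fun i _ => ?_
        rw [MvPolynomial.smul_eq_C_mul]
        refine Ideal.mul_mem_left _ _ (Ideal.subset_span ⟨⟨i, lt_of_lt_of_le i.2 hdim⟩, ?_⟩)
        simp [W]
    have h := hD k φ
    simp only [hφ] at h
    rw [show (fun i => W i) = W from rfl, hspan] at h
    exact h
  choose R hR using key
  refine ⟨R, fun k _ m S hS => ⟨{q | q ∈ (Ideal.span S).radical ∧ q.totalDegree ≤ R m}, fun q hq => hq.2,
    le_antisymm (Ideal.span_le.2 fun q hq => hq.1) (hR m k S hS)⟩⟩

end Groth.Agent.Rad31
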