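import Groth.Agent.Rad31.Base

/-!
Hermann's bound for relation modules and for contractions along finite extensions.
-/

set_option autoImplicit false
set_option linter.unusedSectionVars false
universe u

open TensorProduct MvPolynomial

namespace Groth.Agent.Rad31

variable {N : ℕ}

/-- the comparison of `k ⊗ A[x]^L` with `k[x]^L` -/
noncomputable def piPolyEquiv (A k : Type u) [CommRing A] [CommRing k] [Algebra A k] (N L : ℕ) :
    k ⊗[A] (Fin L → MvPolynomial (Fin N) A) ≃ₗ[k] (Fin L → MvPolynomial (Fin N) k) :=
  (TensorProduct.piRight A k k (fun _ : Fin L => MvPolynomial (Fin N) A)).trans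
    (LinearEquiv.piCongrRight fun _ => (MvPolynomial.algebraTensorAlgEquiv (σ := Fin N) A k).toLinearEquiv)

theorem piPolyEquiv_tmul {A k : Type u} [CommRing A] [CommRing k] [Algebra A k] {L : ℕ} (a : k)
    (m : Fin L → MvPolynomial (Fin N) A) (l : Fin L) :
    piPolyEquiv A k N L (a ⊗ₜ[A] m) l = a • MvPolynomial.map (algebraMap A k) (m l) := by
  simp [piPolyEquiv, MvPolynomial.algebraTensorAlgEquiv_tmul]

/-- relations between vectors of polynomials -/
def Rel {R : Type u} [CommRing R] {L e : ℕ} (W : Fin L → Fin e → MvPolynomial (Fin N) R)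
    (c : Fin L → MvPolynomial (Fin N) R) : Prop := ∀ i, ∑ l, c l * W l i = 0

theorem exists_relation_bound_family {A : Type u} [CommRing A] [IsNoetherianRing A] {L e : ℕ}
    (W : Fin L → Fin e → MvPolynomial (Fin N) A) :
    ∃ D, ∀ (k : Type u) [Field k] (φ : A →+* k), ∀ c, Rel (fun l i => MvPolynomial.map φ (W l i)) c →
      c ∈ Submodule.span (MvPolynomial (Fin N) k)
        {c' | Rel (fun l i => MvPolynomial.map φ (W l i)) c' ∧ ∀ l, (c' l).totalDegree ≤ D} := by
  classical
  refine exists_bound _ (fun D D' hD k _ φ h c hc => ?_) fun p hp => ?_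
  · refine Submodule.span_mono ?_ (h c hc)
    exact fun c' hc' => ⟨hc'.1, fun l => (hc'.2 l).trans hD⟩
  let A' := A ⧸ p
  let P := MvPolynomial (Fin N) A'
  let W' : Fin L → Fin e → P := fun l i => MvPolynomial.map (Ideal.Quotient.mk p) (W l i)
  let u : (Fin L → P) →ₗ[P] (Fin e → P) := Fintype.linearCombination P W'
  have hu : ∀ (c : Fin L → P) (i : Fin e), u c i = ∑ l, c l * W' l i := fun c i => by
    simp [u, Fintype.linearCombination_apply]
  obtain ⟨f, hf0, hf⟩ := exists_kernel_baseChange (A := A') (B := P) (C := P) u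
  obtain ⟨f, rfl⟩ := Ideal.Quotient.mk_surjective f
  obtain ⟨G, hG⟩ := (IsNoetherian.noetherian (LinearMap.ker u) : (LinearMap.ker u).FG)
  refine ⟨f, fun h => hf0 (Ideal.Quotient.eq_zero_iff_mem.2 h),
    G.sup fun g => Finset.univ.sup fun l => (g l).totalDegree, fun k _ φ hker hφf c hc => ?_⟩
  let ψ : A' →+* k := Ideal.Quotient.lift p φ hker
  letI : Algebra A' k := ψ.toAlgebra
  have hWψ : ∀ l i, MvPolynomial.map ψ (W' l i) = MvPolynomial.map φ (W l i) := fun l i => by
    rw [MvPolynomial.map_map]; rfl
  obtain ⟨z, rfl⟩ := (piPolyEquiv A' k N L).surjective c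
  have hcomm : ∀ (z : k ⊗[A'] (Fin L → P)) (i : Fin e),
      piPolyEquiv A' k N e ((u.restrictScalars A').lTensor k z) i
        = ∑ l, piPolyEquiv A' k N L z l * MvPolynomial.map φ (W l i) := by
    intro z i
    induction z using TensorProduct.induction_on with
    | zero => simp
    | add a b ha hb => simp only [map_add, Pi.add_apply, ha, hb, add_mul, Finset.sum_add_distrib]
    | tmul a m =>
      simp only [LinearMap.lTensor_tmul, LinearMap.coe_restrictScalars, piPolyEquiv_tmul, hu, map_sum,
        map_mul, Finset.smul_sum, smul_mul_assoc]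
      refine Finset.sum_congr rfl fun l _ => ?_
      rw [← hWψ]
      rfl
  have h0 : (u.restrictScalars A').lTensor k z = 0 := by
    apply (piPolyEquiv A' k N e).injective
    funext i
    rw [map_zero, hcomm]
    exact hc i
  obtain ⟨w, rfl⟩ := hf k hφf z h0
  clear hc h0
  induction w using TensorProduct.induction_on with
  | zero => rw [map_zero, map_zero]; exact zero_mem _
  | add a b ha hb => rw [map_add, map_add]; exact add_mem ha hb
  | tmul a m =>
    rw [LinearMap.lTensor_tmul]
    have hmem : (m : Fin L → P) ∈ Submodule.span P (G : Set (Fin L → P)) := by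
      rw [hG]; exact m.2
    have heq : piPolyEquiv A' k N L (a ⊗ₜ[A'] (m : Fin L → P))
        = (C a : MvPolynomial (Fin N) k) • fun l => MvPolynomial.map ψ ((m : Fin L → P) l) := by
      funext l
      rw [piPolyEquiv_tmul, Pi.smul_apply, smul_eq_mul, MvPolynomial.smul_eq_C_mul]
      rfl
    change piPolyEquiv A' k N L (a ⊗ₜ[A'] (m : Fin L → P)) ∈ _
    rw [heq]
    refine Submodule.smul_mem _ _ ?_
    clear heq
    generalize (m : Fin L → P) = x at hmem
    induction hmem using Submodule.span_induction with
    | zero =>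
      have h : (fun l => MvPolynomial.map ψ ((0 : Fin L → P) l)) = 0 := funext fun l => map_zero _
      rw [h]; exact zero_mem _
    | add x y _ _ hx hy =>
      have h : (fun l => MvPolynomial.map ψ ((x + y) l))
          = (fun l => MvPolynomial.map ψ (x l)) + fun l => MvPolynomial.map ψ (y l) := funext fun l => map_add _ _ _
      rw [h]; exact add_mem hx hy
    | smul r x _ hx =>
      have h : (fun l => MvPolynomial.map ψ ((r • x) l))
          = MvPolynomial.map ψ r • fun l => MvPolynomial.map ψ (x l) := funext fun l => map_mul _ _ _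
      rw [h]; exact Submodule.smul_mem _ _ hx
    | mem g hg =>
      refine Submodule.subset_span ⟨fun i => ?_, fun l => ?_⟩
      · have hgk : u g = 0 := by
          have : g ∈ LinearMap.ker u := by rw [← hG]; exact Submodule.subset_span hg
          exact this
        have h := congrArg (MvPolynomial.map ψ) (congrFun hgk i)
        rw [hu, map_sum, Pi.zero_apply, map_zero] at h
        simp only [map_mul, hWψ] at h
        exact h
      · refine le_trans (Finset.sup_mono (MvPolynomial.support_map_subset _ _)) ?_
        exact (Finset.le_sup (f := fun l => (g l).totalDegree) (Finset.mem_univ l)).trans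
          (Finset.le_sup (f := fun g : Fin L → P => Finset.univ.sup fun l => (g l).totalDegree) hg)

/-- relations between vectors of bounded degree are generated in bounded degree -/
theorem exists_relation_bound (N d L e : ℕ) :
    ∃ D, ∀ (k : Type u) [Field k] (W : Fin L → Fin e → MvPolynomial (Fin N) k),
      (∀ l i, (W l i).totalDegree ≤ d) → ∀ c, Rel W c →
        c ∈ Submodule.span (MvPolynomial (Fin N) k) {c' | Rel W c' ∧ ∀ l, (c' l).totalDegree ≤ D} := by
  obtain ⟨A, _, _, F, hF⟩ := exists_universal.{u} N d (Fin L × Fin e)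
  obtain ⟨D, hD⟩ := exists_relation_bound_family (fun l i => F (l, i))
  refine ⟨D, fun k _ W hW c hc => ?_⟩
  obtain ⟨φ, hφ⟩ := hF k (fun li => W li.1 li.2) fun li => hW li.1 li.2
  have e1 : (fun l i => MvPolynomial.map φ (F (l, i))) = W := funext fun l => funext fun i => hφ (l, i)
  have h := hD k φ c
  rw [e1] at h
  exact h hc

/-- Hermann's bound for the contraction of an ideal along a finite extension -/
theorem exists_contraction_bound (N d r e : ℕ) :
    ∃ D, ∀ (k S : Type u) [Field k] [CommRing S] [Algebra k S] (b : Module.Basis (Fin e) k S)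
      (g : Fin r → MvPolynomial (Fin N) S), (∀ j, (g j).totalDegree ≤ d) →
        (Ideal.span (Set.range g)).comap (MvPolynomial.map (algebraMap k S)) ≤
          Ideal.span {f | MvPolynomial.map (algebraMap k S) f ∈ Ideal.span (Set.range g) ∧ f.totalDegree ≤ D} := by
  classical
  obtain ⟨D, hD⟩ := exists_relation_bound.{u} N d (1 + r * e) e
  refine ⟨D, fun k S _ _ _ b g hg f hf => ?_⟩
  let ext : MvPolynomial (Fin N) k →+* MvPolynomial (Fin N) S := MvPolynomial.map (algebraMap k S)
  -- coordinates of a polynomial over `S`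
  let co : MvPolynomial (Fin N) S → Fin e → MvPolynomial (Fin N) k := fun q i =>
    ∑ m ∈ q.support, monomial m (b.repr (q.coeff m) i)
  have hcoeff : ∀ q i m, (co q i).coeff m = b.repr (q.coeff m) i := by
    intro q i m
    simp only [co, coeff_sum, coeff_monomial, Finset.sum_ite_eq']
    split_ifs with h
    · rfl
    · simp [MvPolynomial.notMem_support_iff.1 h]
  have hco : ∀ q, q = ∑ i, ext (co q i) * C (b i) := by
    intro q
    ext m
    simp only [ext, coeff_sum, coeff_map, hcoeff, mul_comm _ (C (b _)), coeff_C_mul]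
    conv_lhs => rw [← b.sum_repr (q.coeff m)]
    exact Finset.sum_congr rfl fun i _ => by rw [Algebra.smul_def, mul_comm]
  have huniq : ∀ q : Fin e → MvPolynomial (Fin N) k, ∑ i, ext (q i) * C (b i) = 0 → ∀ i, q i = 0 := by
    intro q hq i
    ext m
    have h := congrArg (fun p => MvPolynomial.coeff m p) hq
    simp only [ext, coeff_sum, coeff_map, mul_comm _ (C (b _)), coeff_C_mul, coeff_zero] at h
    have h2 := Fintype.linearIndependent_iff.1 b.linearIndependent (fun i => (q i).coeff m) (by
      rw [← h]; exact Finset.sum_congr rfl fun i _ => by rw [Algebra.smul_def, mul_comm]) i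
    simpa using h2
  let v : Fin (1 + r * e) → MvPolynomial (Fin N) S := fun l =>
    Fin.addCases (fun _ => (1 : MvPolynomial (Fin N) S))
      (fun t => C (b (finProdFinEquiv.symm t).2) * g (finProdFinEquiv.symm t).1) l
  let W : Fin (1 + r * e) → Fin e → MvPolynomial (Fin N) k := fun l => co (v l)
  have hW : ∀ l i, (W l i).totalDegree ≤ d := by
    intro l i
    have h1 : (v l).totalDegree ≤ d := by
      refine Fin.addCases (fun a => ?_) (fun t => ?_) l
      · simp [v]
      · simp only [v, Fin.addCases_right]
        refine (MvPolynomial.totalDegree_mul _ _).trans ?_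
        rw [MvPolynomial.totalDegree_C, zero_add]
        exact hg _
    refine le_trans (Finset.sup_mono ?_) h1
    intro m hm
    rw [MvPolynomial.mem_support_iff, hcoeff] at hm
    rw [MvPolynomial.mem_support_iff]
    exact fun h => hm (by rw [h, map_zero, Finsupp.zero_apply])
  have hrel : ∀ c, Rel W c ↔ ∑ l, ext (c l) * v l = 0 := by
    intro c
    have h : ∑ l, ext (c l) * v l = ∑ i, ext (∑ l, c l * W l i) * C (b i) := by
      conv_lhs => arg 2; ext l; rw [hco (v l), Finset.mul_sum]
      rw [Finset.sum_comm]
      refine Finset.sum_congr rfl fun i _ => ?_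
      rw [map_sum, Finset.sum_mul]
      exact Finset.sum_congr rfl fun l _ => by rw [map_mul, mul_assoc]
    constructor
    · intro hc
      rw [h]
      exact Finset.sum_eq_zero fun i _ => by rw [hc i, map_zero, zero_mul]
    · intro hc
      exact huniq _ (h ▸ hc)
  have hsum : ∀ c : Fin (1 + r * e) → MvPolynomial (Fin N) k, ∑ l, ext (c l) * v l
      = ext (c (Fin.castAdd _ 0)) + ∑ j, (∑ i, ext (c (Fin.natAdd 1 (finProdFinEquiv (j, i)))) * C (b i)) * g j := by
    intro c
    rw [Fin.sum_univ_add, Fin.sum_univ_one]
    congr 1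
    · simp [v]
    · rw [← finProdFinEquiv.sum_comp, Fintype.sum_prod_type]
      refine Finset.sum_congr rfl fun j _ => ?_
      rw [Finset.sum_mul]
      exact Finset.sum_congr rfl fun i _ => by simp only [v, Fin.addCases_right, Equiv.symm_apply_apply, mul_assoc]
  obtain ⟨q, hq⟩ := Ideal.mem_span_range_iff_exists_fun.1 hf
  let c : Fin (1 + r * e) → MvPolynomial (Fin N) k := fun l =>
    Fin.addCases (fun _ => f) (fun t => -co (q (finProdFinEquiv.symm t).1) (finProdFinEquiv.symm t).2) l
  have hc : Rel W c := by
    rw [hrel, hsum]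
    simp only [c, Fin.addCases_left, Fin.addCases_right, Equiv.symm_apply_apply, map_neg, neg_mul,
      Finset.sum_neg_distrib, ← hco]
    simp only [ext]
    rw [hq, add_neg_cancel]
  have h0 := hD k W hW c hc
  have hproj : ∀ c' ∈ Submodule.span (MvPolynomial (Fin N) k) {c' | Rel W c' ∧ ∀ l, (c' l).totalDegree ≤ D},
      c' (Fin.castAdd _ 0) ∈
        Ideal.span {f | ext f ∈ Ideal.span (Set.range g) ∧ f.totalDegree ≤ D} := by
    intro c' hc'
    induction hc' using Submodule.span_induction with
    | zero => simp
    | add x y _ _ hx hy => exact add_mem hx hy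
    | smul a x _ hx => exact Ideal.mul_mem_left _ a hx
    | mem x hx =>
      refine Ideal.subset_span ⟨?_, hx.2 _⟩
      have h := (hrel x).1 hx.1
      rw [hsum, add_eq_zero_iff_eq_neg] at h
      rw [h]
      exact neg_mem (Ideal.sum_mem _ fun j _ => Ideal.mul_mem_left _ _ (Ideal.subset_span ⟨j, rfl⟩))
  simpa [c, ext] using hproj c h0

end Groth.Agent.Rad31
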